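import Mathlib.Algebra.Homology.HomologySequence
import Mathlib.Algebra.Homology.HomologicalComplexAbelian

/-!
# Two out of three for acyclicity in short exact sequences of cochain complexes
-/

open CategoryTheory Limits

namespace Groth.Agent.H45

universe v u

variable {𝒞 : Type u} [Category.{v} 𝒞] [Abelian 𝒞]

section

variable (S : ShortComplex (CochainComplex 𝒞 ℤ)) (hS : S.ShortExact)

include hS

lemma acyclic_X₃_of_shortExact (h₁ : ∀ i, IsZero (S.X₁.homology i))
    (h₂ : ∀ i, IsZero (S.X₂.homology i)) (i : ℤ) : IsZero (S.X₃.homology i) :=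
  (hS.homology_exact₃ i (i + 1) (by simp)).isZero_of_both_zeros
    ((h₂ i).eq_of_src _ _) ((h₁ (i + 1)).eq_of_tgt _ _)

lemma acyclic_X₂_of_shortExact (h₁ : ∀ i, IsZero (S.X₁.homology i))
    (h₃ : ∀ i, IsZero (S.X₃.homology i)) (i : ℤ) : IsZero (S.X₂.homology i) :=
  (hS.homology_exact₂ i).isZero_of_both_zeros
    ((h₁ i).eq_of_src _ _) ((h₃ i).eq_of_tgt _ _)

lemma acyclic_X₁_of_shortExact (h₂ : ∀ i, IsZero (S.X₂.homology i))
    (h₃ : ∀ i, IsZero (S.X₃.homology i)) (i : ℤ) : IsZero (S.X₁.homology i) :=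
  (hS.homology_exact₁ (i - 1) i (by simp)).isZero_of_both_zeros
    ((h₃ (i - 1)).eq_of_src _ _) ((h₂ i).eq_of_tgt _ _)

end

end Groth.Agent.H45
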