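import Mathlib.Algebra.Homology.Embedding.StupidTrunc
import Mathlib.Algebra.Homology.Embedding.HomEquiv
import Mathlib.Algebra.Homology.Embedding.CochainComplex
import Mathlib.Algebra.Homology.HomologicalComplexAbelian
import Mathlib.Algebra.Homology.HomologicalComplexLimits
import Mathlib.Algebra.Homology.ShortComplex.ExactFunctor
import Mathlib.CategoryTheory.Limits.Constructions.EventuallyConstant
import Mathlib.CategoryTheory.Functor.OfSequence

/-!
# The filtration of a cochain complex by its stupid truncations `σ_{≥ a} K`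
-/

open CategoryTheory Limits

namespace Groth.Agent.H45

universe v' u'

variable {𝒜 : Type u'} [Category.{v'} 𝒜] [Abelian 𝒜]

open HomologicalComplex

section Kernel

variable {K Q : CochainComplex 𝒜 ℤ} (π : K ⟶ Q)

/-- The kernel of a morphism of complexes is computed degreewise. -/
lemma kernel_eval_exact (q : ℤ) :
    (ShortComplex.mk ((kernel.ι π).f q) (π.f q)
      (by rw [← HomologicalComplex.comp_f, kernel.condition, HomologicalComplex.zero_f])).Exact :=
  (ShortComplex.exact_of_f_is_kernel (ShortComplex.mk (kernel.ι π) π (kernel.condition π))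
    (kernelIsKernel π)).map (eval 𝒜 (ComplexShape.up ℤ) q)

lemma isIso_kernel_ι_f_of_isZero (q : ℤ) (h : IsZero (Q.X q)) : IsIso ((kernel.ι π).f q) := by
  have hex := kernel_eval_exact π q
  have : Epi ((kernel.ι π).f q) := hex.epi_f (h.eq_of_tgt _ _)
  exact isIso_of_mono_of_epi _

lemma isZero_kernel_X_of_mono (q : ℤ) [Mono (π.f q)] : IsZero ((kernel π).X q) := by
  have hex := kernel_eval_exact π q
  have h0 : (kernel.ι π).f q = 0 := hex.mono_g_iff.1 (inferInstanceAs (Mono (π.f q)))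
  exact IsZero.of_mono_eq_zero _ h0

end Kernel

section Trunc

variable (K : CochainComplex 𝒜 ℤ)

lemma hasLift_id_embeddingUpIntLE (m : ℤ) :
    (ComplexShape.embeddingUpIntLE m).HasLift
      (𝟙 (K.restriction (ComplexShape.embeddingUpIntLE m))) :=
  fun _ hj => hj.false_of_isTruncLE.elim

/-- The projection onto the stupid truncation `σ_{≤ m} K`. -/
noncomputable def πStupidLE (m : ℤ) : K ⟶ K.stupidTrunc (ComplexShape.embeddingUpIntLE m) :=
  (ComplexShape.embeddingUpIntLE m).liftExtend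
    (𝟙 (K.restriction (ComplexShape.embeddingUpIntLE m))) (hasLift_id_embeddingUpIntLE K m)

lemma isIso_πStupidLE_f (m q : ℤ) (hq : q ≤ m) : IsIso ((πStupidLE K m).f q) := by
  obtain ⟨k, hk⟩ : ∃ k : ℕ, (ComplexShape.embeddingUpIntLE m).f k = q :=
    ⟨(m - q).toNat, by simp [ComplexShape.embeddingUpIntLE_f]; lia⟩
  exact ((ComplexShape.embeddingUpIntLE m).isIso_liftExtend_f_iff _
    (hasLift_id_embeddingUpIntLE K m) hk).2 inferInstance

lemma isZero_stupidTruncLE_X (m q : ℤ) (hq : m < q) :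
    IsZero ((K.stupidTrunc (ComplexShape.embeddingUpIntLE m)).X q) :=
  K.isZero_stupidTrunc_X _ q (fun k hk => by
    simp [ComplexShape.embeddingUpIntLE_f] at hk
    lia)

/-- The stupid truncation `σ_{≥ a} K`, as a subcomplex of `K`. -/
noncomputable def sigmaGE (a : ℤ) : CochainComplex 𝒜 ℤ := kernel (πStupidLE K (a - 1))

/-- The inclusion `σ_{≥ a} K ⟶ K`. -/
noncomputable def ιSigmaGE (a : ℤ) : sigmaGE K a ⟶ K := kernel.ι (πStupidLE K (a - 1))

instance (a : ℤ) : Mono (ιSigmaGE K a) := inferInstanceAs (Mono (kernel.ι _))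

lemma isIso_ιSigmaGE_f (a q : ℤ) (hq : a ≤ q) : IsIso ((ιSigmaGE K a).f q) :=
  isIso_kernel_ι_f_of_isZero _ q (isZero_stupidTruncLE_X K (a - 1) q (by lia))

lemma isZero_sigmaGE_X (a q : ℤ) (hq : q < a) : IsZero ((sigmaGE K a).X q) := by
  have := isIso_πStupidLE_f K (a - 1) q (by lia)
  exact isZero_kernel_X_of_mono _ q

lemma ιSigmaGE_comp_πStupidLE (a a' : ℤ) (h : a' ≤ a) :
    ιSigmaGE K a ≫ πStupidLE K (a' - 1) = 0 := by
  ext q
  by_cases hq : q < a
  · exact (isZero_sigmaGE_X K a q hq).eq_of_src _ _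
  · exact (isZero_stupidTruncLE_X K (a' - 1) q (by lia)).eq_of_tgt _ _

/-- The transition maps `σ_{≥ a} K ⟶ σ_{≥ a'} K` for `a' ≤ a`. -/
noncomputable def sigmaGEMap (a a' : ℤ) (h : a' ≤ a) : sigmaGE K a ⟶ sigmaGE K a' :=
  kernel.lift _ (ιSigmaGE K a) (ιSigmaGE_comp_πStupidLE K a a' h)

@[reassoc (attr := simp)]
lemma sigmaGEMap_ι (a a' : ℤ) (h : a' ≤ a) :
    sigmaGEMap K a a' h ≫ ιSigmaGE K a' = ιSigmaGE K a :=
  kernel.lift_ι _ _ _

instance (a a' : ℤ) (h : a' ≤ a) : Mono (sigmaGEMap K a a' h) :=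
  mono_of_mono_fac (sigmaGEMap_ι K a a' h)

lemma isIso_sigmaGEMap_f (a a' : ℤ) (h : a' ≤ a) (q : ℤ) (hq : a ≤ q) :
    IsIso ((sigmaGEMap K a a' h).f q) := by
  have h1 := isIso_ιSigmaGE_f K a q hq
  have h2 := isIso_ιSigmaGE_f K a' q (by lia)
  have : (sigmaGEMap K a a' h).f q ≫ (ιSigmaGE K a').f q = (ιSigmaGE K a).f q := by
    rw [← HomologicalComplex.comp_f, sigmaGEMap_ι]
  exact IsIso.of_isIso_fac_right this

/-- The sequence `σ_{≥ b} K ⟶ σ_{≥ b - 1} K ⟶ ⋯`. -/
noncomputable def sigmaGESeq (b : ℤ) : ℕ ⥤ CochainComplex 𝒜 ℤ :=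
  Functor.ofSequence (X := fun n : ℕ => sigmaGE K (b - n))
    (fun n => sigmaGEMap K (b - n) (b - (n + 1 : ℕ)) (by lia))

lemma sigmaGESeq_map_succ (b : ℤ) (n : ℕ) :
    (sigmaGESeq K b).map (homOfLE (n.le_add_right 1)) =
      sigmaGEMap K (b - n) (b - (n + 1 : ℕ)) (by lia) :=
  Functor.ofSequence_map_homOfLE_succ _ n

/-- The cocone of the sequence `σ_{≥ b - n} K` with point `K`. -/
noncomputable def sigmaGECocone (b : ℤ) : Cocone (sigmaGESeq K b) where
  pt := K
  ι := NatTrans.ofSequence (fun n => ιSigmaGE K (b - n)) (fun n =>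
    (congrArg (· ≫ ιSigmaGE K (b - (n + 1 : ℕ))) (sigmaGESeq_map_succ K b n)).trans
      ((sigmaGEMap_ι K (b - n) (b - (n + 1 : ℕ)) (by lia)).trans (Category.comp_id _).symm))

lemma sigmaGECocone_ι_app (b : ℤ) (n : ℕ) :
    (sigmaGECocone K b).ι.app n = ιSigmaGE K (b - n) := rfl

/-- `K` is the colimit of its stupid truncations `σ_{≥ b - n} K`. -/
noncomputable def isColimitSigmaGECocone (b : ℤ) : IsColimit (sigmaGECocone K b) :=
  isColimitOfEval _ _ (fun q => by
    have hD : (sigmaGESeq K b ⋙ eval _ _ q).IsEventuallyConstantFrom (b - q).toNat := by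
      intro j f
      have hj : (b - q).toNat ≤ j := leOfHom f
      have h1 : IsIso (((sigmaGECocone K b).ι.app j).f q) :=
        isIso_ιSigmaGE_f K (b - j) q (by lia)
      have h2 : IsIso (((sigmaGECocone K b).ι.app (b - q).toNat).f q) :=
        isIso_ιSigmaGE_f K (b - (b - q).toNat) q (by lia)
      have e : ((sigmaGESeq K b).map f).f q ≫ ((sigmaGECocone K b).ι.app j).f q =
          ((sigmaGECocone K b).ι.app (b - q).toNat).f q := by
        rw [← HomologicalComplex.comp_f, (sigmaGECocone K b).w]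
      exact @IsIso.of_isIso_fac_right _ _ _ _ _ _ _ _ h1 h2 e
    haveI : IsIso (((eval _ _ q).mapCocone (sigmaGECocone K b)).ι.app (b - q).toNat) :=
      isIso_ιSigmaGE_f K (b - (b - q).toNat) q (by lia)
    exact hD.isColimitOfIsIso _)

/-- The short complex `σ_{≥ a} K ⟶ σ_{≥ a - 1} K ⟶ coker`. -/
noncomputable def sigmaGEShortComplex (a : ℤ) : ShortComplex (CochainComplex 𝒜 ℤ) :=
  ShortComplex.mk (sigmaGEMap K a (a - 1) (sub_le_self a zero_le_one)) (cokernel.π _)
    (cokernel.condition _)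

lemma sigmaGEShortComplex_shortExact (a : ℤ) : (sigmaGEShortComplex K a).ShortExact where
  exact := ShortComplex.exact_of_g_is_cokernel _ (cokernelIsCokernel _)
  mono_f := inferInstanceAs (Mono (sigmaGEMap K a (a - 1) (sub_le_self a zero_le_one)))
  epi_g := inferInstanceAs (Epi (cokernel.π _))

lemma isZero_sigmaGEShortComplex_X₃_X (a q : ℤ) (hq : q ≠ a - 1) :
    IsZero ((sigmaGEShortComplex K a).X₃.X q) := by
  have hS : ((sigmaGEShortComplex K a).map (eval _ _ q)).ShortExact :=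
    (sigmaGEShortComplex_shortExact K a).map_of_exact _
  have hepi := hS.epi_g
  by_cases h : a ≤ q
  · have hiso : IsIso ((sigmaGEShortComplex K a).map (eval _ _ q)).f :=
      isIso_sigmaGEMap_f K a (a - 1) (by lia) q h
    exact @IsZero.of_epi_eq_zero _ _ _ _ _ _ hepi (hS.exact.epi_f_iff.1 inferInstance)
  · exact @IsZero.of_epi _ _ _ _ _ ((sigmaGEShortComplex K a).map (eval _ _ q)).g hepi
      (isZero_sigmaGE_X K (a - 1) q (by lia))

/-- The degree `a - 1` term of the cokernel of `σ_{≥ a} K ⟶ σ_{≥ a - 1} K` is `K^{a-1}`. -/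
noncomputable def sigmaGEShortComplexX₃XIso (a : ℤ) :
    (sigmaGEShortComplex K a).X₃.X (a - 1) ≅ K.X (a - 1) := by
  have hS : ((sigmaGEShortComplex K a).map (eval _ _ (a - 1))).ShortExact :=
    (sigmaGEShortComplex_shortExact K a).map_of_exact _
  have hepi := hS.epi_g
  have hmono : Mono ((sigmaGEShortComplex K a).map (eval _ _ (a - 1))).g :=
    hS.exact.mono_g_iff.2 ((isZero_sigmaGE_X K a (a - 1) (by lia)).eq_of_src _ _)
  have hiso : IsIso ((sigmaGEShortComplex K a).map (eval _ _ (a - 1))).g :=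
    isIso_of_mono_of_epi _
  have hiso' := isIso_ιSigmaGE_f K (a - 1) (a - 1) le_rfl
  exact (@asIso _ _ _ _ _ hiso).symm ≪≫ @asIso _ _ _ _ _ hiso'

end Trunc

end Groth.Agent.H45
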