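import Groth.Agent.H45.SheafTensor.Flat
import Mathlib.CategoryTheory.Functor.Trifunctor
import Mathlib.CategoryTheory.Monoidal.Category

/-!
# The associator of the tensor product of sheaves of modules, as an isomorphism of trifunctors
-/

open CategoryTheory Limits Opposite MonoidalCategory

universe u

namespace Groth.Agent.H45

variable {C : Type u} [SmallCategory C] {J : GrothendieckTopology C} (O : Sheaf J CommRingCat.{u})

section Monoidal

variable {M : Type*} [Category M] [MonoidalCategory M]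

lemma whiskerRight_sq {W X Y Z : M} {f₁ : W ⟶ X} {f₂ : X ⟶ Z} {g₁ : W ⟶ Y} {g₂ : Y ⟶ Z}
    (h : f₁ ≫ f₂ = g₁ ≫ g₂) (T : M) : f₁ ▷ T ≫ f₂ ▷ T = g₁ ▷ T ≫ g₂ ▷ T := by
  rw [← comp_whiskerRight, h, comp_whiskerRight]

lemma whiskerLeft_sq {W X Y Z : M} {f₁ : W ⟶ X} {f₂ : X ⟶ Z} {g₁ : W ⟶ Y} {g₂ : Y ⟶ Z}
    (h : f₁ ≫ f₂ = g₁ ≫ g₂) (T : M) : T ◁ f₁ ≫ T ◁ f₂ = T ◁ g₁ ≫ T ◁ g₂ := by
  rw [← whiskerLeft_comp, h, whiskerLeft_comp]

end Monoidal

section

variable {O}

lemma tensorBi_map_app {A A' : ModSite.Mod O} (g : A ⟶ A') (B : ModSite.Mod O) :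
    ((ModSite.tensorBi O).map g).app B = (shf O).map ((forg O).map g ▷ (forg O).obj B) := rfl

lemma tensorBi_obj_map (A : ModSite.Mod O) {B B' : ModSite.Mod O} (g : B ⟶ B') :
    ((ModSite.tensorBi O).obj A).map g = (shf O).map ((forg O).obj A ◁ (forg O).map g) := rfl

lemma tensorBi_obj_obj (A B : ModSite.Mod O) :
    ((ModSite.tensorBi O).obj A).obj B = (shf O).obj ((forg O).obj A ⊗ (forg O).obj B) := rfl

lemma unit_naturality' {P P' : PMod O} (φ : P ⟶ P') :
    (shfAdj O).unit.app P ≫ (forg O).map ((shf O).map φ) = φ ≫ (shfAdj O).unit.app P' :=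
  ((shfAdj O).unit.naturality φ).symm

/-- Transport of commutative squares along sheafification. -/
lemma shf_map_sq {P₁ P₂ P₃ P₄ : PMod O} {f₁ : P₁ ⟶ P₂} {f₂ : P₂ ⟶ P₄} {g₁ : P₁ ⟶ P₃}
    {g₂ : P₃ ⟶ P₄} (h : f₁ ≫ f₂ = g₁ ≫ g₂) :
    (shf O).map f₁ ≫ (shf O).map f₂ = (shf O).map g₁ ≫ (shf O).map g₂ :=
  (((shf O).map_comp f₁ f₂).symm.trans (congrArg (shf O).map h)).trans ((shf O).map_comp g₁ g₂)

end

/-- The unit of the sheafification adjunction at `A ⊗ B` (presheaf tensor product). -/
noncomputable abbrev ηT (A B : ModSite.Mod O) :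
    (forg O).obj A ⊗ (forg O).obj B ⟶
      (forg O).obj ((shf O).obj ((forg O).obj A ⊗ (forg O).obj B)) :=
  (shfAdj O).unit.app ((forg O).obj A ⊗ (forg O).obj B)

instance (A B : ModSite.Mod O) : IsIso ((shf O).map (ηT O A B)) :=
  isIso_shf_map_unit _

/-- The first map in the definition of the associator. -/
noncomputable def assocU (A B D : ModSite.Mod O) :
    (shf O).obj (((forg O).obj A ⊗ (forg O).obj B) ⊗ (forg O).obj D) ⟶
      ((ModSite.tensorBi O).obj (((ModSite.tensorBi O).obj A).obj B)).obj D :=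
  (shf O).map (ηT O A B ▷ (forg O).obj D)

instance (A B D : ModSite.Mod O) : IsIso (assocU O A B D) :=
  isIso_shf_map_whiskerRight (ηT O A B) ((forg O).obj D)

/-- The last map in the definition of the associator. -/
noncomputable def assocV (A B D : ModSite.Mod O) :
    (shf O).obj ((forg O).obj A ⊗ ((forg O).obj B ⊗ (forg O).obj D)) ⟶
      ((ModSite.tensorBi O).obj A).obj (((ModSite.tensorBi O).obj B).obj D) :=
  (shf O).map ((forg O).obj A ◁ ηT O B D)

instance (A B D : ModSite.Mod O) : IsIso (assocV O A B D) :=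
  isIso_shf_map_whiskerLeft (ηT O B D) ((forg O).obj A)

/-- The associator `(A ⊗ B) ⊗ D ≅ A ⊗ (B ⊗ D)` for sheaves of modules. -/
noncomputable def tensorAssocApp (A B D : ModSite.Mod O) :
    ((ModSite.tensorBi O).obj (((ModSite.tensorBi O).obj A).obj B)).obj D ≅
      ((ModSite.tensorBi O).obj A).obj (((ModSite.tensorBi O).obj B).obj D) :=
  (asIso (assocU O A B D)).symm ≪≫
    (shf O).mapIso (α_ ((forg O).obj A) ((forg O).obj B) ((forg O).obj D)) ≪≫
    asIso (assocV O A B D)

variable {O}

lemma tensorAssocApp_hom (A B D : ModSite.Mod O) :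
    (tensorAssocApp O A B D).hom = inv (assocU O A B D) ≫
      (shf O).map (α_ ((forg O).obj A) ((forg O).obj B) ((forg O).obj D)).hom ≫
        assocV O A B D := rfl

/-- A general principle to prove the naturality of the associator. -/
lemma tensorAssocApp_naturality_aux {A B D A' B' D' : ModSite.Mod O}
    (s : ((ModSite.tensorBi O).obj (((ModSite.tensorBi O).obj A).obj B)).obj D ⟶
      ((ModSite.tensorBi O).obj (((ModSite.tensorBi O).obj A').obj B')).obj D')
    (t : ((ModSite.tensorBi O).obj A).obj (((ModSite.tensorBi O).obj B).obj D) ⟶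
      ((ModSite.tensorBi O).obj A').obj (((ModSite.tensorBi O).obj B').obj D'))
    (m₁ : ((forg O).obj A ⊗ (forg O).obj B) ⊗ (forg O).obj D ⟶
      ((forg O).obj A' ⊗ (forg O).obj B') ⊗ (forg O).obj D')
    (m₂ : (forg O).obj A ⊗ ((forg O).obj B ⊗ (forg O).obj D) ⟶
      (forg O).obj A' ⊗ ((forg O).obj B' ⊗ (forg O).obj D'))
    (sq1 : assocU O A B D ≫ s = (shf O).map m₁ ≫ assocU O A' B' D')
    (sq2 : m₁ ≫ (α_ ((forg O).obj A') ((forg O).obj B') ((forg O).obj D')).hom =
      (α_ ((forg O).obj A) ((forg O).obj B) ((forg O).obj D)).hom ≫ m₂)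
    (sq3 : (shf O).map m₂ ≫ assocV O A' B' D' = assocV O A B D ≫ t) :
    s ≫ (tensorAssocApp O A' B' D').hom = (tensorAssocApp O A B D).hom ≫ t := by
  rw [tensorAssocApp_hom, tensorAssocApp_hom, Category.assoc, Category.assoc, IsIso.eq_inv_comp,
    reassoc_of% sq1, IsIso.hom_inv_id_assoc, ← sq3, reassoc_of% (shf_map_sq sq2)]

lemma assocU_eq (A B D : ModSite.Mod O) :
    assocU O A B D = (shf O).map (ηT O A B ▷ (forg O).obj D) := rfl

lemma assocV_eq (A B D : ModSite.Mod O) :
    assocV O A B D = (shf O).map ((forg O).obj A ◁ ηT O B D) := rfl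

lemma tensorAssocApp_naturality₁ {A A' : ModSite.Mod O} (g : A ⟶ A') (B D : ModSite.Mod O) :
    ((ModSite.tensorBi O).map (((ModSite.tensorBi O).map g).app B)).app D ≫
        (tensorAssocApp O A' B D).hom =
      (tensorAssocApp O A B D).hom ≫
        ((ModSite.tensorBi O).map g).app (((ModSite.tensorBi O).obj B).obj D) := by
  refine tensorAssocApp_naturality_aux
    (s := (shf O).map ((forg O).map ((shf O).map ((forg O).map g ▷ (forg O).obj B)) ▷
      (forg O).obj D))
    (t := (shf O).map ((forg O).map g ▷ (forg O).obj (((ModSite.tensorBi O).obj B).obj D)))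
    (((forg O).map g ▷ (forg O).obj B) ▷ (forg O).obj D)
    ((forg O).map g ▷ ((forg O).obj B ⊗ (forg O).obj D)) ?_ ?_ ?_
  · rw [assocU_eq, assocU_eq]
    exact shf_map_sq (whiskerRight_sq (unit_naturality' _) _)
  · exact associator_naturality_left _ _ _
  · rw [assocV_eq, assocV_eq]
    exact shf_map_sq (whisker_exchange _ _).symm

lemma tensorAssocApp_naturality₂ (A : ModSite.Mod O) {B B' : ModSite.Mod O} (g : B ⟶ B')
    (D : ModSite.Mod O) :
    ((ModSite.tensorBi O).map (((ModSite.tensorBi O).obj A).map g)).app D ≫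
        (tensorAssocApp O A B' D).hom =
      (tensorAssocApp O A B D).hom ≫
        ((ModSite.tensorBi O).obj A).map (((ModSite.tensorBi O).map g).app D) := by
  refine tensorAssocApp_naturality_aux
    (s := (shf O).map ((forg O).map ((shf O).map ((forg O).obj A ◁ (forg O).map g)) ▷
      (forg O).obj D))
    (t := (shf O).map ((forg O).obj A ◁
      (forg O).map ((shf O).map ((forg O).map g ▷ (forg O).obj D))))
    (((forg O).obj A ◁ (forg O).map g) ▷ (forg O).obj D)
    ((forg O).obj A ◁ ((forg O).map g ▷ (forg O).obj D)) ?_ ?_ ?_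
  · rw [assocU_eq, assocU_eq]
    exact shf_map_sq (whiskerRight_sq (unit_naturality' _) _)
  · exact associator_naturality_middle _ _ _
  · rw [assocV_eq, assocV_eq]
    exact shf_map_sq (whiskerLeft_sq (unit_naturality' _).symm _)

lemma tensorAssocApp_naturality₃ (A B : ModSite.Mod O) {D D' : ModSite.Mod O} (g : D ⟶ D') :
    ((ModSite.tensorBi O).obj (((ModSite.tensorBi O).obj A).obj B)).map g ≫
        (tensorAssocApp O A B D').hom =
      (tensorAssocApp O A B D).hom ≫
        ((ModSite.tensorBi O).obj A).map (((ModSite.tensorBi O).obj B).map g) := by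
  refine tensorAssocApp_naturality_aux
    (s := (shf O).map ((forg O).obj (((ModSite.tensorBi O).obj A).obj B) ◁ (forg O).map g))
    (t := (shf O).map ((forg O).obj A ◁
      (forg O).map ((shf O).map ((forg O).obj B ◁ (forg O).map g))))
    (((forg O).obj A ⊗ (forg O).obj B) ◁ (forg O).map g)
    ((forg O).obj A ◁ ((forg O).obj B ◁ (forg O).map g)) ?_ ?_ ?_
  · rw [assocU_eq, assocU_eq]
    exact shf_map_sq (whisker_exchange _ _).symm
  · exact associator_naturality_right _ _ _
  · rw [assocV_eq, assocV_eq]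
    exact shf_map_sq (whiskerLeft_sq (unit_naturality' _).symm _)

variable (O)

/-- The associator of the tensor product of sheaves of modules, as an isomorphism of
trifunctors. -/
noncomputable def tensorAssocNatIso :
    bifunctorComp₁₂ (ModSite.tensorBi O) (ModSite.tensorBi O) ≅
      bifunctorComp₂₃ (ModSite.tensorBi O) (ModSite.tensorBi O) :=
  NatIso.ofComponents
    (fun A => NatIso.ofComponents
      (fun B => NatIso.ofComponents (fun D => tensorAssocApp O A B D)
        (fun g => tensorAssocApp_naturality₃ A B g))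
      (fun g => by
        apply NatTrans.ext
        funext D
        exact tensorAssocApp_naturality₂ A g D))
    (fun g => by
      apply NatTrans.ext
      funext B
      apply NatTrans.ext
      funext D
      exact tensorAssocApp_naturality₁ g B D)

end Groth.Agent.H45
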