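import Groth.Agent.H45.KFlat.Single
import Groth.Agent.H45.KFlat.StupidFiltration

/-!
# Bounded above complexes of flat modules are K-flat
-/

open CategoryTheory Limits

namespace Groth.Agent.H45

universe u

variable {C : Type u} [SmallCategory C] {J : GrothendieckTopology C} {O : Sheaf J CommRingCat.{u}}

open HomologicalComplex

theorem isFlat_of_iso {F F' : ModSite.Mod O} (e : F ≅ F') (h : ModSite.IsFlat F) :
    ModSite.IsFlat F' := by
  rw [isFlat_iff] at h ⊢
  exact preservesFiniteLimits_of_natIso ((ModSite.tensorBi O).flip.mapIso e)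

theorem isFlat_of_isZero {F : ModSite.Mod O} (h : IsZero F) : ModSite.IsFlat F := by
  apply isFlat_of_forall_mono
  intro E hE
  have hz : IsZero (((ModSite.tensorBi O).flip.obj F).obj E.X₁) :=
    ((ModSite.tensorBi O).obj E.X₁).map_isZero h
  exact hz.mono _

theorem isKFlat_of_iso {K K' : CochainComplex (ModSite.Mod O) ℤ} (e : K ≅ K')
    (h : ModSite.IsKFlat K) : ModSite.IsKFlat K' := by
  intro F hF i
  exact (h F hF i).of_iso ((HomologicalComplex.homologyFunctor _ _ i).mapIso
    (((ModSite.tensorCx O).obj F).mapIso e.symm))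

variable (K : CochainComplex (ModSite.Mod O) ℤ)

theorem isKFlat_sigmaGE (b : ℤ) [K.IsStrictlyLE b] (hflat : ∀ n : ℤ, ModSite.IsFlat (K.X n))
    (n : ℕ) : ModSite.IsKFlat (sigmaGE K (b - n)) := by
  induction n with
  | zero =>
    have e : b - ((0 : ℕ) : ℤ) = b := by simp
    rw [e]
    have hiso := isIso_ιSigmaGE_f K b b le_rfl
    refine isKFlat_of_isZero_of_isFlat _ b (fun q hq => ?_)
      (isFlat_of_iso (@asIso _ _ _ _ _ hiso).symm (hflat b))
    by_cases h : q < b
    · exact isZero_sigmaGE_X K b q h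
    · have hiso' := isIso_ιSigmaGE_f K b q (by lia)
      exact (K.isZero_of_isStrictlyLE b q (by lia)).of_iso (@asIso _ _ _ _ _ hiso')
  | succ n ih =>
    have e : b - ((n + 1 : ℕ) : ℤ) = (b - n) - 1 := by push_cast; ring
    rw [e]
    let S := sigmaGEShortComplex K (b - n)
    have hS : S.ShortExact := sigmaGEShortComplex_shortExact K (b - n)
    have h3 : ∀ q : ℤ, ModSite.IsFlat (S.X₃.X q) := by
      intro q
      by_cases hq : q = (b - n) - 1
      · subst hq
        exact isFlat_of_iso (sigmaGEShortComplexX₃XIso K (b - n)).symm (hflat _)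
      · exact isFlat_of_isZero (isZero_sigmaGEShortComplex_X₃_X K (b - n) q hq)
    have hX₃ : ModSite.IsKFlat S.X₃ :=
      isKFlat_of_isZero_of_isFlat _ ((b - n) - 1)
        (fun q hq => isZero_sigmaGEShortComplex_X₃_X K (b - n) q hq) (h3 _)
    exact (isKFlat_two_of_three S (fun F => shortExact_map_tensorCx_of_flat S hS h3 F)).2.1 ih hX₃

/-- A bounded above complex of flat modules is K-flat. -/
theorem isKFlat_of_isStrictlyLE (b : ℤ) [K.IsStrictlyLE b]
    (hflat : ∀ n : ℤ, ModSite.IsFlat (K.X n)) : ModSite.IsKFlat K :=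
  isKFlat_of_isColimit_nat (sigmaGESeq K b) (sigmaGECocone K b) (isColimitSigmaGECocone K b)
    (fun n => isKFlat_sigmaGE K b hflat n)

end Groth.Agent.H45
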