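import Groth.Agent.H45.KFlat.Cone
import Groth.Agent.H5.BifunctorSplit
import Mathlib.Algebra.Homology.BifunctorFlip

/-!
# Symmetry of the tensor product of complexes and K-flatness
-/

open CategoryTheory Limits

namespace Groth.Agent.H45

universe u

section General

variable {C₁ C₂ D : Type*} [Category C₁] [Category C₂] [Category D]
  [HasZeroMorphisms C₁] [HasZeroMorphisms C₂] [Preadditive D]
  {I₁ I₂ J : Type*} {c₁ : ComplexShape I₁} {c₂ : ComplexShape I₂}
  {F G : C₁ ⥤ C₂ ⥤ D} [F.PreservesZeroMorphisms] [∀ X, (F.obj X).PreservesZeroMorphisms]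
  [G.PreservesZeroMorphisms] [∀ X, (G.obj X).PreservesZeroMorphisms]
  (K₁ : HomologicalComplex C₁ c₁) (K₂ : HomologicalComplex C₂ c₂)

open HomologicalComplex

/-- The morphism of bicomplexes induced by a natural transformation of bifunctors. -/
def bicomplexMapOfNatTrans (τ : F ⟶ G) :
    ((F.mapBifunctorHomologicalComplex c₁ c₂).obj K₁).obj K₂ ⟶
      ((G.mapBifunctorHomologicalComplex c₁ c₂).obj K₁).obj K₂ :=
  HomologicalComplex₂.homMk (fun ⟨i₁, i₂⟩ => (τ.app (K₁.X i₁)).app (K₂.X i₂))
    (fun i₁ i₁' i₂ _ => by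
      dsimp
      exact (NatTrans.naturality_app τ _ _).symm)
    (fun i₁ i₂ i₂' _ => by
      dsimp
      exact ((τ.app _).naturality _).symm)

/-- The isomorphism of bicomplexes induced by a natural isomorphism of bifunctors. -/
def bicomplexIsoOfNatIso (e : F ≅ G) :
    ((F.mapBifunctorHomologicalComplex c₁ c₂).obj K₁).obj K₂ ≅
      ((G.mapBifunctorHomologicalComplex c₁ c₂).obj K₁).obj K₂ where
  hom := bicomplexMapOfNatTrans K₁ K₂ e.hom
  inv := bicomplexMapOfNatTrans K₁ K₂ e.inv
  hom_inv_id := by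
    ext i₁ i₂
    change (e.hom.app (K₁.X i₁)).app (K₂.X i₂) ≫ (e.inv.app (K₁.X i₁)).app (K₂.X i₂) = 𝟙 _
    rw [← NatTrans.comp_app, ← NatTrans.comp_app, e.hom_inv_id]
    rfl
  inv_hom_id := by
    ext i₁ i₂
    change (e.inv.app (K₁.X i₁)).app (K₂.X i₂) ≫ (e.hom.app (K₁.X i₁)).app (K₂.X i₂) = 𝟙 _
    rw [← NatTrans.comp_app, ← NatTrans.comp_app, e.inv_hom_id]
    rfl

variable (c : ComplexShape J) [TotalComplexShape c₁ c₂ c] [DecidableEq J]
  [HasMapBifunctor K₁ K₂ F c] [HasMapBifunctor K₁ K₂ G c]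

/-- The isomorphism of total complexes induced by a natural isomorphism of bifunctors. -/
noncomputable def mapBifunctorNatIso (e : F ≅ G) :
    mapBifunctor K₁ K₂ F c ≅ mapBifunctor K₁ K₂ G c :=
  HomologicalComplex₂.total.mapIso (bicomplexIsoOfNatIso K₁ K₂ e) c

end General

section Site

open MonoidalCategory HomologicalComplex

variable {C : Type u} [SmallCategory C] {J : GrothendieckTopology C} (O : Sheaf J CommRingCat.{u})

/-- Symmetry of the tensor product of sheaves of modules, as an isomorphism of bifunctors. -/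
noncomputable def tensorBiFlipIso : ModSite.tensorBi O ≅ (ModSite.tensorBi O).flip :=
  NatIso.ofComponents (fun F => tensorBiObjIsoFlipObj O F) (by
    intro F F' f
    refine NatTrans.ext (funext fun G => ?_)
    change (shf O).map ((forg O).map f ▷ (forg O).obj G) ≫
        (shf O).map (β_ ((forg O).obj F') ((forg O).obj G)).hom =
      (shf O).map (β_ ((forg O).obj F) ((forg O).obj G)).hom ≫
        (shf O).map ((forg O).obj G ◁ (forg O).map f)
    rw [← Functor.map_comp, ← Functor.map_comp, BraidedCategory.braiding_naturality_left])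

instance additive_tensorBi_flip : (ModSite.tensorBi O).flip.Additive where
  map_add {X Y f g} := by
    refine NatTrans.ext (funext fun Z => ?_)
    exact ((ModSite.tensorBi O).obj Z).map_add

instance preservesZeroMorphisms_tensorBi_flip :
    (ModSite.tensorBi O).flip.PreservesZeroMorphisms := inferInstance

variable {O}

/-- A K-flat complex is also K-flat "on the left". -/
theorem isZero_homology_mapBifunctor_left_of_isKFlat {K : CochainComplex (ModSite.Mod O) ℤ}
    (hK : ModSite.IsKFlat K) (L : CochainComplex (ModSite.Mod O) ℤ)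
    (hL : ∀ i : ℤ, IsZero (L.homology i)) (i : ℤ) :
    IsZero ((mapBifunctor K L (ModSite.tensorBi O) (ComplexShape.up ℤ)).homology i) := by
  let e : mapBifunctor K L (ModSite.tensorBi O) (ComplexShape.up ℤ) ≅
      mapBifunctor L K (ModSite.tensorBi O) (ComplexShape.up ℤ) :=
    mapBifunctorNatIso K L (ComplexShape.up ℤ) (tensorBiFlipIso O) ≪≫
      mapBifunctorFlipIso L K (ModSite.tensorBi O) (ComplexShape.up ℤ)
  exact (hK L hL i).of_iso ((HomologicalComplex.homologyFunctor _ _ i).mapIso e)

/-- If `Tot(F ⊗ L)` is acyclic for every acyclic `L`, then `Tot(F ⊗ -)` preserves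
quasi-isomorphisms. -/
theorem quasiIso_mapBifunctorMap_right (F : CochainComplex (ModSite.Mod O) ℤ)
    (hF : ∀ L : CochainComplex (ModSite.Mod O) ℤ, (∀ i : ℤ, IsZero (L.homology i)) →
      ∀ i : ℤ, IsZero ((mapBifunctor F L (ModSite.tensorBi O) (ComplexShape.up ℤ)).homology i))
    {P Q : CochainComplex (ModSite.Mod O) ℤ} (α : P ⟶ Q) [QuasiIso α] :
    QuasiIso (mapBifunctorMap (𝟙 F) α (ModSite.tensorBi O) (ComplexShape.up ℤ)) := by
  have h1 : QuasiIso (mapBifunctorMap α (𝟙 F) (ModSite.tensorBi O).flip (ComplexShape.up ℤ)) :=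
    Groth.Agent.H5.BifunctorSplit.quasiIso_Gmap (ModSite.tensorBi O).flip F
      (fun L hL i => (hF L hL i).of_iso ((HomologicalComplex.homologyFunctor _ _ i).mapIso
        (mapBifunctorFlipIso F L (ModSite.tensorBi O) (ComplexShape.up ℤ)))) α
  have h2 := mapBifunctorFlipIso_hom_naturality (𝟙 F) α (ModSite.tensorBi O) (ComplexShape.up ℤ)
  have h3 : mapBifunctorMap (𝟙 F) α (ModSite.tensorBi O) (ComplexShape.up ℤ) =
      (mapBifunctorFlipIso F P (ModSite.tensorBi O) (ComplexShape.up ℤ)).inv ≫
        mapBifunctorMap α (𝟙 F) (ModSite.tensorBi O).flip (ComplexShape.up ℤ) ≫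
          (mapBifunctorFlipIso F Q (ModSite.tensorBi O) (ComplexShape.up ℤ)).hom := by
    rw [h2, Iso.inv_hom_id_assoc]
  rw [h3]
  infer_instance

end Site

end Groth.Agent.H45
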