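import Groth.Agent.H45.KFlat.TwoOfThree
import Mathlib.Algebra.Homology.HomotopyCategory.DegreewiseSplit
import Mathlib.Algebra.Homology.HomotopyCategory.ShiftSequence
import Mathlib.Algebra.Homology.BifunctorShift

/-!
# K-flat complexes: shifts and mapping cones
-/

open CategoryTheory Limits

namespace Groth.Agent.H45

universe u

section Shift

universe v' u'

variable {𝒞 : Type u'} [Category.{v'} 𝒞] [Abelian 𝒞]

lemma acyclic_shift_iff (K : CochainComplex 𝒞 ℤ) (n : ℤ) :
    (∀ i, IsZero ((K⟦n⟧).homology i)) ↔ ∀ i, IsZero (K.homology i) := by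
  constructor
  · intro h i
    exact (h (i - n)).of_iso
      ((CochainComplex.ShiftSequence.shiftIso 𝒞 n (i - n) i (by lia)).app K).symm
  · intro h i
    exact (h (n + i)).of_iso
      ((CochainComplex.ShiftSequence.shiftIso 𝒞 n i (n + i) rfl).app K)

end Shift

variable {C : Type u} [SmallCategory C] {J : GrothendieckTopology C} {O : Sheaf J CommRingCat.{u}}

open HomologicalComplex

lemma isKFlat_shift_iff (K : CochainComplex (ModSite.Mod O) ℤ) (n : ℤ) :
    ModSite.IsKFlat (K⟦n⟧) ↔ ModSite.IsKFlat K := by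
  have key : ∀ F : CochainComplex (ModSite.Mod O) ℤ,
      (∀ i, IsZero ((((ModSite.tensorCx O).obj F).obj (K⟦n⟧)).homology i)) ↔
        ∀ i, IsZero ((((ModSite.tensorCx O).obj F).obj K).homology i) := by
    intro F
    rw [← acyclic_shift_iff (((ModSite.tensorCx O).obj F).obj K) n]
    have e : ((ModSite.tensorCx O).obj F).obj (K⟦n⟧) ≅
        (((ModSite.tensorCx O).obj F).obj K)⟦n⟧ :=
      CochainComplex.mapBifunctorShift₂Iso F K (ModSite.tensorBi O) n
    constructor
    · intro h i
      exact (h i).of_iso ((HomologicalComplex.homologyFunctor _ _ i).mapIso e.symm)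
    · intro h i
      exact (h i).of_iso ((HomologicalComplex.homologyFunctor _ _ i).mapIso e)
  constructor
  · intro h F hF
    exact (key F).1 (h F hF)
  · intro h F hF
    exact (key F).2 (h F hF)

/-- A degreewise split short exact sequence stays short exact after applying `Tot(F ⊗ -)`. -/
theorem shortExact_map_tensorCx_of_splitting (S : ShortComplex (CochainComplex (ModSite.Mod O) ℤ))
    (σ : ∀ n, (S.map (eval _ _ n)).Splitting)
    (F : CochainComplex (ModSite.Mod O) ℤ) :
    (S.map ((ModSite.tensorCx O).obj F)).ShortExact := by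
  apply shortExact_map_tensorCx
  intro p q
  exact ((σ q).map ((ModSite.tensorBi O).obj (F.X p))).shortExact

/-- Two out of three for K-flatness along a mapping cone. -/
theorem isKFlat_mappingCone_two_of_three {K₁ K₂ : CochainComplex (ModSite.Mod O) ℤ} (φ : K₁ ⟶ K₂) :
    (ModSite.IsKFlat K₁ → ModSite.IsKFlat K₂ → ModSite.IsKFlat (CochainComplex.mappingCone φ)) ∧
    (ModSite.IsKFlat K₁ → ModSite.IsKFlat (CochainComplex.mappingCone φ) → ModSite.IsKFlat K₂) ∧
    (ModSite.IsKFlat K₂ → ModSite.IsKFlat (CochainComplex.mappingCone φ) → ModSite.IsKFlat K₁) := by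
  have h := isKFlat_two_of_three (CochainComplex.mappingCone.triangleRotateShortComplex φ)
    (fun F => shortExact_map_tensorCx_of_splitting _
      (CochainComplex.mappingCone.triangleRotateShortComplexSplitting φ) F)
  have hs : ModSite.IsKFlat (CochainComplex.mappingCone.triangleRotateShortComplex φ).X₃ ↔
      ModSite.IsKFlat K₁ := isKFlat_shift_iff K₁ 1
  refine ⟨fun h₁ h₂ => h.2.1 h₂ (hs.2 h₁), fun h₁ h₃ => h.2.2 h₃ (hs.2 h₁),
    fun h₂ h₃ => hs.1 (h.1 h₂ h₃)⟩

end Groth.Agent.H45
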