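import Groth.Agent.H45.KFlat.Colimit
import Groth.Agent.H45.KFlat.Cone

/-!
# A complex concentrated in one degree, with flat term, is K-flat
-/

open CategoryTheory Limits

namespace Groth.Agent.H45

universe u

section Cofan

/-- If all but one of the summands of a coproduct are zero, then the remaining inclusion is an
isomorphism. -/
lemma isIso_cofan_inj_of_isZero {A : Type*} [Category A] [HasZeroMorphisms A] {ι : Type*}
    {f : ι → A} (c : Cofan f) (hc : IsColimit c) (j₀ : ι) (h : ∀ j, j ≠ j₀ → IsZero (f j)) :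
    IsIso (c.inj j₀) := by
  classical
  refine ⟨Cofan.IsColimit.desc hc (fun j => if hj : j = j₀ then eqToHom (by rw [hj]) else 0),
    ?_, ?_⟩
  · rw [Cofan.IsColimit.fac, dif_pos rfl, eqToHom_refl]
  · apply Cofan.IsColimit.hom_ext hc
    intro j
    by_cases hj : j = j₀
    · subst hj
      rw [Cofan.IsColimit.fac_assoc, dif_pos rfl, eqToHom_refl, Category.id_comp,
        Category.comp_id]
    · exact (h j hj).eq_of_src _ _

end Cofan

variable {C : Type u} [SmallCategory C] {J : GrothendieckTopology C} {O : Sheaf J CommRingCat.{u}}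

open HomologicalComplex

/-- If `K` is concentrated in degree `m`, the inclusion of the summand `F^p ⊗ K^m` in
`Tot(F ⊗ K)^n`, `p + m = n`, is an isomorphism. -/
lemma isIso_ιMapBifunctor_of_isZero (F K : CochainComplex (ModSite.Mod O) ℤ) (m : ℤ)
    (hK : ∀ q, q ≠ m → IsZero (K.X q)) (p n : ℤ)
    (h : ComplexShape.π (ComplexShape.up ℤ) (ComplexShape.up ℤ) (ComplexShape.up ℤ) (p, m) = n) :
    IsIso (ιMapBifunctor F K (ModSite.tensorBi O) (ComplexShape.up ℤ) p m n h) := by
  refine isIso_cofan_inj_of_isZero (totCocone O F n K) (isColimitTotCocone O F n K) ⟨(p, m), h⟩ ?_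
  rintro ⟨⟨p', q'⟩, h'⟩ hne
  have hq : q' ≠ m := by
    rintro rfl
    apply hne
    have h1 : p' + q' = n := h'
    have h2 : p + q' = n := h
    have : p' = p := by lia
    subst this
    rfl
  exact ((ModSite.tensorBi O).obj (F.X p')).map_isZero (hK q' hq)

/-- The differential of `Tot(F ⊗ K)` on the summand `F^p ⊗ K^m` when `K` is concentrated in
degree `m`. -/
lemma ι_comp_d_of_isZero (F K : CochainComplex (ModSite.Mod O) ℤ) (m : ℤ)
    (hK : ∀ q, q ≠ m → IsZero (K.X q)) (p p' n n' : ℤ) (hp : p + 1 = p')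
    (h : ComplexShape.π (ComplexShape.up ℤ) (ComplexShape.up ℤ) (ComplexShape.up ℤ) (p, m) = n)
    (h' : ComplexShape.π (ComplexShape.up ℤ) (ComplexShape.up ℤ) (ComplexShape.up ℤ) (p', m) = n') :
    ιMapBifunctor F K (ModSite.tensorBi O) (ComplexShape.up ℤ) p m n h ≫
        (mapBifunctor F K (ModSite.tensorBi O) (ComplexShape.up ℤ)).d n n' =
      ((ModSite.tensorBi O).map (F.d p p')).app (K.X m) ≫
        ιMapBifunctor F K (ModSite.tensorBi O) (ComplexShape.up ℤ) p' m n' h' := by
  have h2 : mapBifunctor.d₂ F K (ModSite.tensorBi O) (ComplexShape.up ℤ) p m n' = 0 := by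
    by_cases hr : (ComplexShape.up ℤ).Rel m ((ComplexShape.up ℤ).next m)
    · rw [mapBifunctor.d₂_eq' F K (ModSite.tensorBi O) (ComplexShape.up ℤ) p hr n']
      have hz : K.d m ((ComplexShape.up ℤ).next m) = 0 :=
        (hK _ (by
          have : m + 1 = (ComplexShape.up ℤ).next m := hr
          lia)).eq_of_tgt _ _
      rw [hz, Functor.map_zero, zero_comp, smul_zero]
    · exact mapBifunctor.d₂_eq_zero F K (ModSite.tensorBi O) (ComplexShape.up ℤ) p m n' hr
  rw [mapBifunctor.d_eq, Preadditive.comp_add, mapBifunctor.ι_D₁, mapBifunctor.ι_D₂, h2, add_zero,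
    mapBifunctor.d₁_eq F K (ModSite.tensorBi O) (ComplexShape.up ℤ)
      (show (ComplexShape.up ℤ).Rel p p' from hp) m n' h']
  exact one_smul _ _

/-- A complex concentrated in one degree, with flat term in that degree, is K-flat. -/
theorem isKFlat_of_isZero_of_isFlat (K : CochainComplex (ModSite.Mod O) ℤ) (m : ℤ)
    (hK : ∀ q, q ≠ m → IsZero (K.X q)) (hflat : ModSite.IsFlat (K.X m)) : ModSite.IsKFlat K := by
  intro F hF n
  rw [← exactAt_iff_isZero_homology]
  let T := mapBifunctor F K (ModSite.tensorBi O) (ComplexShape.up ℤ)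
  change T.ExactAt n
  rw [exactAt_iff' T (n - 1) n (n + 1) (by simp) (by simp)]
  let p := n - m
  let Φ := (ModSite.tensorBi O).flip.obj (K.X m)
  have hπ : ∀ a b : ℤ, a + m = b →
      ComplexShape.π (ComplexShape.up ℤ) (ComplexShape.up ℤ) (ComplexShape.up ℤ) (a, m) = b :=
    fun a b h => h
  have i₁ := isIso_ιMapBifunctor_of_isZero F K m hK (p - 1) (n - 1) (hπ _ _ (by lia))
  have i₂ := isIso_ιMapBifunctor_of_isZero F K m hK p n (hπ _ _ (by lia))
  have i₃ := isIso_ιMapBifunctor_of_isZero F K m hK (p + 1) (n + 1) (hπ _ _ (by lia))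
  have hΦ : PreservesFiniteLimits Φ := hflat.1
  have hexF : (F.sc' (p - 1) p (p + 1)).Exact :=
    (exactAt_iff' F (p - 1) p (p + 1) (by simp) (by simp)).1
      ((exactAt_iff_isZero_homology _ _).2 (hF p))
  have hex : ((F.sc' (p - 1) p (p + 1)).map Φ).Exact := hexF.map Φ
  refine (ShortComplex.exact_iff_of_iso ?_).1 hex
  refine ShortComplex.isoMk (@asIso _ _ _ _ _ i₁) (@asIso _ _ _ _ _ i₂) (@asIso _ _ _ _ _ i₃) ?_ ?_
  · exact (ι_comp_d_of_isZero F K m hK (p - 1) p (n - 1) n (by lia) _ _)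
  · exact (ι_comp_d_of_isZero F K m hK p (p + 1) n (n + 1) rfl _ _)

end Groth.Agent.H45
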