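import Groth.Agent.H45.KFlat.TotalExact
import Mathlib.Algebra.Homology.HomologicalComplexLimits

/-!
# Colimits of K-flat complexes
-/

open CategoryTheory Limits

namespace Groth.Agent.H45

universe u

section General

variable {A : Type*} [Category A] [Abelian A] {J : Type*} [Category J]
  [HasColimitsOfShape J A] [HasExactColimitsOfShape J A] {ι : Type*} {c : ComplexShape ι}

open HomologicalComplex

/-- If colimits of shape `J` are exact, a colimit of shape `J` of complexes which are exact in
degree `i` is exact in degree `i`. -/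
theorem exactAt_of_isColimit (D : J ⥤ HomologicalComplex A c) (cc : Cocone D) (hcc : IsColimit cc)
    (i : ι) (h : ∀ j, (D.obj j).ExactAt i) : cc.pt.ExactAt i := by
  let S : ShortComplex (J ⥤ A) :=
    ShortComplex.mk (Functor.whiskerLeft D (dNatTrans A c (c.prev i) i))
      (Functor.whiskerLeft D (dNatTrans A c i (c.next i))) (by
        ext j
        exact (D.obj j).d_comp_d _ _ _)
  have hS : S.Exact := exact_of_evaluation S (fun j => h j)
  exact colim.exact_mapShortComplex hS (isColimitOfPreserves (eval A c (c.prev i)) hcc)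
    (isColimitOfPreserves (eval A c i) hcc) (isColimitOfPreserves (eval A c (c.next i)) hcc)
    (cc.pt.d (c.prev i) i) (cc.pt.d i (c.next i))
    (fun j => ((cc.ι.app j).comm (c.prev i) i))
    (fun j => ((cc.ι.app j).comm i (c.next i)))

end General

section Tensor

variable {C : Type u} [SmallCategory C] {J : GrothendieckTopology C} (O : Sheaf J CommRingCat.{u})

open HomologicalComplex

variable (F : CochainComplex (ModSite.Mod O) ℤ) (n : ℤ)

/-- The index type of the summands of the total complex in degree `n`. -/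
abbrev TotIdx (n : ℤ) : Type :=
  (ComplexShape.π (ComplexShape.up ℤ) (ComplexShape.up ℤ) (ComplexShape.up ℤ)) ⁻¹' {n}

/-- The graded object underlying the double complex `F^p ⊗ K^q`. -/
noncomputable abbrev totGraded (K : CochainComplex (ModSite.Mod O) ℤ) :
    GradedObject (ℤ × ℤ) (ModSite.Mod O) :=
  ((((ModSite.tensorBi O).mapBifunctorHomologicalComplex _ _).obj F).obj K).toGradedObject

/-- The functor sending a complex `K` to the family of summands `F^p ⊗ K^q`, `p + q = n`. -/
noncomputable def totSummands :
    CochainComplex (ModSite.Mod O) ℤ ⥤ (Discrete (TotIdx n) ⥤ ModSite.Mod O) where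
  obj K := Discrete.functor ((totGraded O F K).mapObjFun
    (ComplexShape.π (ComplexShape.up ℤ) (ComplexShape.up ℤ) (ComplexShape.up ℤ)) n)
  map {K K'} φ := Discrete.natTrans
    (fun i => ((ModSite.tensorBi O).obj (F.X i.as.1.1)).map (φ.f i.as.1.2))
  map_id K := by
    apply NatTrans.ext
    funext ⟨i⟩
    change ((ModSite.tensorBi O).obj (F.X i.1.1)).map ((𝟙 K : K ⟶ K).f i.1.2) = 𝟙 _
    rw [HomologicalComplex.id_f]
    exact CategoryTheory.Functor.map_id _ _
  map_comp {K K' K''} φ ψ := by
    apply NatTrans.ext
    funext ⟨i⟩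
    change ((ModSite.tensorBi O).obj (F.X i.1.1)).map ((φ ≫ ψ).f i.1.2) =
      ((ModSite.tensorBi O).obj (F.X i.1.1)).map (φ.f i.1.2) ≫
        ((ModSite.tensorBi O).obj (F.X i.1.1)).map (ψ.f i.1.2)
    rw [HomologicalComplex.comp_f]
    exact CategoryTheory.Functor.map_comp _ _ _

/-- The evaluation of `totSummands` at an index. -/
noncomputable def totSummandsEvaluationIso (i : TotIdx n) :
    totSummands O F n ⋙ (evaluation _ _).obj ⟨i⟩ ≅
      eval _ _ i.1.2 ⋙ (ModSite.tensorBi O).obj (F.X i.1.1) :=
  NatIso.ofComponents (fun K => Iso.refl _) (fun {K K'} φ => by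
    change ((ModSite.tensorBi O).obj (F.X i.1.1)).map (φ.f i.1.2) ≫ 𝟙 _ =
      𝟙 _ ≫ ((ModSite.tensorBi O).obj (F.X i.1.1)).map (φ.f i.1.2)
    rw [Category.comp_id, Category.id_comp])

/-- The colimit cocone exhibiting `Tot(F ⊗ K)^n` as the coproduct of its summands. -/
noncomputable abbrev totCocone (K : CochainComplex (ModSite.Mod O) ℤ) :
    Cocone ((totSummands O F n).obj K) :=
  (totGraded O F K).cofanMapObj
    (ComplexShape.π (ComplexShape.up ℤ) (ComplexShape.up ℤ) (ComplexShape.up ℤ)) n

/-- `totCocone` is a colimit cocone. -/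
noncomputable def isColimitTotCocone (K : CochainComplex (ModSite.Mod O) ℤ) :
    IsColimit (totCocone O F n K) :=
  (totGraded O F K).isColimitCofanMapObj
    (ComplexShape.π (ComplexShape.up ℤ) (ComplexShape.up ℤ) (ComplexShape.up ℤ)) n

lemma totCocone_ι_naturality {K K' : CochainComplex (ModSite.Mod O) ℤ} (φ : K ⟶ K')
    (j : Discrete (TotIdx n)) :
    (totCocone O F n K).ι.app j ≫ (((ModSite.tensorCx O).obj F).map φ).f n =
      ((totSummands O F n).map φ).app j ≫ (totCocone O F n K').ι.app j := by
  obtain ⟨⟨⟨i₁, i₂⟩, hi⟩⟩ := j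
  refine (ι_mapBifunctorMap (𝟙 F) φ (ModSite.tensorBi O) (ComplexShape.up ℤ)
    i₁ i₂ n hi).trans ?_
  have e1 : ((ModSite.tensorBi O).map (𝟙 (F.X i₁))).app (K.X i₂) = 𝟙 _ := by
    rw [(ModSite.tensorBi O).map_id]; rfl
  rw [HomologicalComplex.id_f, e1, Category.id_comp]
  rfl

/-- The degree `n` part of `Tot(F ⊗ -)` is the coproduct of the summands. -/
noncomputable def totEvalIso :
    (ModSite.tensorCx O).obj F ⋙ eval _ _ n ≅ totSummands O F n ⋙ colim :=
  NatIso.ofComponents (fun K => (isColimitTotCocone O F n K).coconePointUniqueUpToIso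
    (colimit.isColimit _)) (fun {K K'} φ => by
      apply (isColimitTotCocone O F n K).hom_ext
      intro j
      have h1 := totCocone_ι_naturality O F n φ j
      have h2 := IsColimit.comp_coconePointUniqueUpToIso_hom (isColimitTotCocone O F n K')
        (colimit.isColimit _) j
      have h3 := IsColimit.comp_coconePointUniqueUpToIso_hom (isColimitTotCocone O F n K)
        (colimit.isColimit _) j
      change (totCocone O F n K).ι.app j ≫ (((ModSite.tensorCx O).obj F).map φ).f n ≫
        ((isColimitTotCocone O F n K').coconePointUniqueUpToIso (colimit.isColimit _)).hom =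
        (totCocone O F n K).ι.app j ≫
          ((isColimitTotCocone O F n K).coconePointUniqueUpToIso (colimit.isColimit _)).hom ≫
            colimMap ((totSummands O F n).map φ)
      refine (Category.assoc _ _ _).symm.trans ((h1 =≫ _).trans ((Category.assoc _ _ _).trans
        ((_ ≫= h2).trans ?_)))
      refine Eq.trans ?_ ((Category.assoc _ _ _).symm.trans (h3 =≫ _)).symm
      exact (ι_colimMap _ _).symm)

/-- `Tot(F ⊗ -)` preserves colimits. -/
instance preservesColimitsOfShape_tensorCx_obj (K : Type*) [Category K]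
    [HasColimitsOfShape K (ModSite.Mod O)]
    [∀ X : ModSite.Mod O, PreservesColimitsOfShape K ((ModSite.tensorBi O).obj X)] :
    PreservesColimitsOfShape K ((ModSite.tensorCx O).obj F) := by
  apply preservesColimitsOfShape_of_eval
  intro n
  have : PreservesColimitsOfShape K (totSummands O F n) := by
    apply preservesColimitsOfShape_of_evaluation
    rintro ⟨i⟩
    exact preservesColimitsOfShape_of_natIso (totSummandsEvaluationIso O F n i).symm
  exact preservesColimitsOfShape_of_natIso (totEvalIso O F n).symm

variable {O}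

/-- A colimit (of a shape for which colimits are exact) of K-flat complexes is K-flat. -/
theorem isKFlat_of_isColimit {K : Type*} [Category K] [HasColimitsOfShape K (ModSite.Mod O)]
    [HasExactColimitsOfShape K (ModSite.Mod O)]
    [∀ X : ModSite.Mod O, PreservesColimitsOfShape K ((ModSite.tensorBi O).obj X)]
    (D : K ⥤ CochainComplex (ModSite.Mod O) ℤ) (cc : Cocone D) (hcc : IsColimit cc)
    (hD : ∀ k, ModSite.IsKFlat (D.obj k)) : ModSite.IsKFlat cc.pt := by
  intro F hF i
  rw [← exactAt_iff_isZero_homology]
  exact exactAt_of_isColimit (D ⋙ (ModSite.tensorCx O).obj F) _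
    (isColimitOfPreserves ((ModSite.tensorCx O).obj F) hcc) i
    (fun k => (exactAt_iff_isZero_homology _ _).2 (hD k F hF i))

variable (O)

instance hasExactColimitsOfShape_nat_mod : HasExactColimitsOfShape ℕ (ModSite.Mod O) := by
  haveI : HasFilteredColimitsOfSize.{0, 0} (ModSite.Mod O) := ⟨fun I _ _ => inferInstance⟩
  haveI : AB5OfSize.{0, 0} (ModSite.Mod O) := AB5OfSize_shrink.{0, 0, u, u} (ModSite.Mod O)
  exact AB5OfSize.ofShape ℕ

instance preservesColimitsOfShape_nat_tensorBi_obj (X : ModSite.Mod O) :
    PreservesColimitsOfShape ℕ ((ModSite.tensorBi O).obj X) := by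
  haveI : PreservesColimitsOfSize.{0, 0} ((ModSite.tensorBi O).obj X) :=
    preservesColimitsOfSize_shrink.{0, u, 0, u} _
  infer_instance

variable {O}

/-- The colimit of a sequence of K-flat complexes is K-flat. -/
theorem isKFlat_of_isColimit_nat (D : ℕ ⥤ CochainComplex (ModSite.Mod O) ℤ) (cc : Cocone D)
    (hcc : IsColimit cc) (hD : ∀ k, ModSite.IsKFlat (D.obj k)) : ModSite.IsKFlat cc.pt :=
  isKFlat_of_isColimit D cc hcc hD

end Tensor

end Groth.Agent.H45
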