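import Groth.Agent.H45.KFlat.CyclesMono
import Groth.Agent.H45.Resolution.TensorQuasiIso
import Groth.Agent.H45.KFlat.Single

/-!
# The cycles of an acyclic K-flat complex of flat modules are flat
-/

open CategoryTheory Limits HomologicalComplex

universe u

namespace Groth.Agent.H45

variable {C : Type u} [SmallCategory C] {J : GrothendieckTopology C} {O : Sheaf J CommRingCat.{u}}

/-- If `K` is K-flat and acyclic, then `Tot(F ⊗ K)` is acyclic for every complex `F`. -/
theorem isZero_homology_mapBifunctor_of_isKFlat_of_acyclic {K : CochainComplex (ModSite.Mod O) ℤ}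
    (hK : ModSite.IsKFlat K) (hac : ∀ i : ℤ, IsZero (K.homology i))
    (F : CochainComplex (ModSite.Mod O) ℤ) (i : ℤ) :
    IsZero ((mapBifunctor F K (ModSite.tensorBi O) (ComplexShape.up ℤ)).homology i) := by
  obtain ⟨P, q, hP, -, hq, -⟩ := exists_isKFlat_resolution O F
  have h1 := quasiIso_mapBifunctorMap_left hK q
  have h2 : (mapBifunctor P K (ModSite.tensorBi O) (ComplexShape.up ℤ)).ExactAt i :=
    (exactAt_iff_isZero_homology _ _).2 (isZero_homology_mapBifunctor_left_of_isKFlat hP K hac i)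
  have h4 : QuasiIsoAt (mapBifunctorMap q (𝟙 K) (ModSite.tensorBi O) (ComplexShape.up ℤ)) i :=
    h1.quasiIsoAt i
  exact (exactAt_iff_isZero_homology _ _).1
    ((exactAt_iff_of_quasiIsoAt (mapBifunctorMap q (𝟙 K) (ModSite.tensorBi O)
      (ComplexShape.up ℤ)) i).1 h2)

/-- If `K` is K-flat and acyclic, then `Tot(K ⊗ F)` is acyclic for every complex `F`. -/
theorem isZero_homology_mapBifunctor_of_isKFlat_of_acyclic' {K : CochainComplex (ModSite.Mod O) ℤ}
    (hK : ModSite.IsKFlat K) (hac : ∀ i : ℤ, IsZero (K.homology i))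
    (F : CochainComplex (ModSite.Mod O) ℤ) (i : ℤ) :
    IsZero ((mapBifunctor K F (ModSite.tensorBi O) (ComplexShape.up ℤ)).homology i) := by
  let e : mapBifunctor K F (ModSite.tensorBi O) (ComplexShape.up ℤ) ≅
      mapBifunctor F K (ModSite.tensorBi O) (ComplexShape.up ℤ) :=
    mapBifunctorNatIso K F (ComplexShape.up ℤ) (tensorBiFlipIso O) ≪≫
      mapBifunctorFlipIso F K (ModSite.tensorBi O) (ComplexShape.up ℤ)
  exact (isZero_homology_mapBifunctor_of_isKFlat_of_acyclic hK hac F i).of_iso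
    ((HomologicalComplex.homologyFunctor _ _ i).mapIso e)

/-- If `K` is K-flat and acyclic, then `K ⊗ G` is acyclic for every module `G`. -/
theorem exact_map_flip_of_isKFlat_of_acyclic {K : CochainComplex (ModSite.Mod O) ℤ}
    (hK : ModSite.IsKFlat K) (hac : ∀ i : ℤ, IsZero (K.homology i)) (G : ModSite.Mod O) (n : ℤ) :
    ((K.sc' (n - 1) n (n + 1)).map ((ModSite.tensorBi O).flip.obj G)).Exact := by
  let F : CochainComplex (ModSite.Mod O) ℤ :=
    (HomologicalComplex.single (ModSite.Mod O) (ComplexShape.up ℤ) 0).obj G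
  have hF : ∀ q : ℤ, q ≠ 0 → IsZero (F.X q) := fun q hq =>
    HomologicalComplex.isZero_single_obj_X (ComplexShape.up ℤ) 0 G q hq
  let T := mapBifunctor K F (ModSite.tensorBi O) (ComplexShape.up ℤ)
  have hT : T.ExactAt n := by
    rw [exactAt_iff_isZero_homology]
    exact isZero_homology_mapBifunctor_of_isKFlat_of_acyclic' hK hac F n
  rw [exactAt_iff' T (n - 1) n (n + 1) (by simp) (by simp)] at hT
  have hπ : ∀ a b : ℤ, a + 0 = b →
      ComplexShape.π (ComplexShape.up ℤ) (ComplexShape.up ℤ) (ComplexShape.up ℤ) (a, 0) = b :=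
    fun a b h => h
  have i₁ := isIso_ιMapBifunctor_of_isZero K F 0 hF (n - 1) (n - 1) (hπ _ _ (by lia))
  have i₂ := isIso_ιMapBifunctor_of_isZero K F 0 hF n n (hπ _ _ (by lia))
  have i₃ := isIso_ιMapBifunctor_of_isZero K F 0 hF (n + 1) (n + 1) (hπ _ _ (by lia))
  let Φ := (ModSite.tensorBi O).flip.obj (F.X 0)
  have hex : ((K.sc' (n - 1) n (n + 1)).map Φ).Exact := by
    refine (ShortComplex.exact_iff_of_iso ?_).2 hT
    refine ShortComplex.isoMk (@asIso _ _ _ _ _ i₁) (@asIso _ _ _ _ _ i₂) (@asIso _ _ _ _ _ i₃)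
      ?_ ?_
    · exact (ι_comp_d_of_isZero K F 0 hF (n - 1) n (n - 1) n (by lia) _ _)
    · exact (ι_comp_d_of_isZero K F 0 hF n (n + 1) n (n + 1) rfl _ _)
  let eG : F.X 0 ≅ G := HomologicalComplex.singleObjXSelf (ComplexShape.up ℤ) 0 G
  exact (ShortComplex.exact_iff_of_iso
    ((K.sc' (n - 1) n (n + 1)).mapNatIso ((ModSite.tensorBi O).flip.mapIso eG))).1 hex

/-- If `K` is K-flat and acyclic, then `G ⊗ K` is acyclic for every module `G`. -/
theorem exact_map_obj_of_isKFlat_of_acyclic {K : CochainComplex (ModSite.Mod O) ℤ}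
    (hK : ModSite.IsKFlat K) (hac : ∀ i : ℤ, IsZero (K.homology i)) (G : ModSite.Mod O) (n : ℤ) :
    ((K.sc' (n - 1) n (n + 1)).map ((ModSite.tensorBi O).obj G)).Exact :=
  (ShortComplex.exact_iff_of_iso
    ((K.sc' (n - 1) n (n + 1)).mapNatIso (tensorBiObjIsoFlipObj O G))).2
      (exact_map_flip_of_isKFlat_of_acyclic hK hac G n)

/-- The cycles of an acyclic K-flat complex with flat terms are flat. -/
theorem isFlat_cycles_of_isKFlat_of_acyclic {K : CochainComplex (ModSite.Mod O) ℤ}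
    (hK : ModSite.IsKFlat K) (hac : ∀ i : ℤ, IsZero (K.homology i))
    (hfl : ∀ i : ℤ, ModSite.IsFlat (K.X i)) (n : ℤ) : ModSite.IsFlat (K.cycles n) := by
  apply isFlat_of_forall_mono
  intro E hE
  have := hE.mono_f
  let T := ModSite.tensorBi O
  have hex : ((K.sc' (n - 2) (n - 1) n).map (T.obj E.X₁)).Exact := by
    have := exact_map_obj_of_isKFlat_of_acyclic hK hac E.X₁ (n - 1)
    have e1 : n - 1 - 1 = n - 2 := by ring
    have e2 : n - 1 + 1 = n := by ring
    rwa [e1, e2] at this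
  have m1 : Mono ((T.obj E.X₁).map (K.iCycles n)) :=
    mono_map_iCycles (T.obj E.X₁) K (n - 2) (n - 1) n (by ring)
      ((exactAt_iff_isZero_homology _ _).2 (hac n)) hex
  have m2 : Mono ((T.flip.obj (K.X n)).map E.f) := mono_flip_map_of_isFlat (hfl n) E.f
  have sq : (T.flip.obj (K.cycles n)).map E.f ≫ (T.obj E.X₂).map (K.iCycles n) =
      (T.obj E.X₁).map (K.iCycles n) ≫ (T.flip.obj (K.X n)).map E.f :=
    ((T.map E.f).naturality (K.iCycles n)).symm
  have : Mono ((T.flip.obj (K.cycles n)).map E.f ≫ (T.obj E.X₂).map (K.iCycles n)) := by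
    rw [sq]
    infer_instance
  exact mono_of_mono _ ((T.obj E.X₂).map (K.iCycles n))

end Groth.Agent.H45
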