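import Groth.Agent.H45.KFlat.Associator
import Groth.Agent.H45.KFlat.Colimit
import Mathlib.Algebra.Homology.BifunctorAssociator

/-!
# The tensor product of two K-flat complexes is K-flat
-/

open CategoryTheory Limits HomologicalComplex

universe u

namespace Groth.Agent.H45

variable {C : Type u} [SmallCategory C] {J : GrothendieckTopology C} (O : Sheaf J CommRingCat.{u})

variable (F K L : CochainComplex (ModSite.Mod O) ℤ)

instance hasGoodTrifunctor₁₂Obj_tensorBi :
    HasGoodTrifunctor₁₂Obj (ModSite.tensorBi O) (ModSite.tensorBi O) F K L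
      (ComplexShape.up ℤ) (ComplexShape.up ℤ) := by
  intro i₁₂ i₃
  have : PreservesColimitsOfSize.{0, 0} ((ModSite.tensorBi O).flip.obj (L.X i₃)) :=
    preservesColimitsOfSize_shrink.{0, u, 0, u} _
  infer_instance

instance hasGoodTrifunctor₂₃Obj_tensorBi :
    HasGoodTrifunctor₂₃Obj (ModSite.tensorBi O) (ModSite.tensorBi O) F K L
      (ComplexShape.up ℤ) (ComplexShape.up ℤ) (ComplexShape.up ℤ) := by
  intro i₁ i₂₃
  have : PreservesColimitsOfSize.{0, 0} ((ModSite.tensorBi O).obj (F.X i₁)) :=
    preservesColimitsOfSize_shrink.{0, u, 0, u} _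
  infer_instance

/-- The associator for the tensor product of complexes of sheaves of modules. -/
noncomputable def tensorCxAssociator :
    mapBifunctor (mapBifunctor F K (ModSite.tensorBi O) (ComplexShape.up ℤ)) L
        (ModSite.tensorBi O) (ComplexShape.up ℤ) ≅
      mapBifunctor F (mapBifunctor K L (ModSite.tensorBi O) (ComplexShape.up ℤ))
        (ModSite.tensorBi O) (ComplexShape.up ℤ) :=
  mapBifunctorAssociator (tensorAssocNatIso O) F K L (ComplexShape.up ℤ) (ComplexShape.up ℤ)
    (ComplexShape.up ℤ)

variable {O}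

/-- The tensor product of two K-flat complexes is K-flat. -/
theorem isKFlat_tensorCx {K L : CochainComplex (ModSite.Mod O) ℤ} (hK : ModSite.IsKFlat K)
    (hL : ModSite.IsKFlat L) : ModSite.IsKFlat (((ModSite.tensorCx O).obj K).obj L) := by
  intro F hF i
  have h1 : ∀ j : ℤ, IsZero ((mapBifunctor F K (ModSite.tensorBi O)
      (ComplexShape.up ℤ)).homology j) := hK F hF
  have h2 := hL _ h1 i
  exact h2.of_iso ((HomologicalComplex.homologyFunctor _ _ i).mapIso
    (tensorCxAssociator O F K L).symm)

end Groth.Agent.H45
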