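import Mathlib.Algebra.Homology.ShortComplex.HomologicalComplex
import Mathlib.Algebra.Homology.ShortComplex.ExactFunctor
import Mathlib.CategoryTheory.Abelian.Refinements
import Mathlib.Algebra.Homology.HomotopyCategory.HomComplex

/-!
# A right exact functor which keeps an acyclic complex acyclic is injective on cycles
-/

open CategoryTheory Limits

namespace Groth.Agent.H45

variable {𝒜 ℬ : Type*} [Category 𝒜] [Abelian 𝒜] [Category ℬ] [Abelian ℬ]

lemma epi_toCycles_of_exactAt (K : CochainComplex 𝒜 ℤ) (m n : ℤ) (hmn : m + 1 = n)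
    (hK : K.ExactAt n) : Epi (K.toCycles m n) := by
  have hex : (K.sc' m n (n + 1)).Exact :=
    (HomologicalComplex.exactAt_iff' K m n (n + 1) (by simp; lia) (by simp)).1 hK
  have := hex.epi_toCycles
  have e : K.toCycles m n ≫ (K.cyclesIsoSc' m n (n + 1) (by simp; lia) (by simp)).hom =
      (K.sc' m n (n + 1)).toCycles :=
    K.toCycles_cyclesIsoSc'_hom m n (n + 1) (by simp; lia) (by simp)
  have h2 : Epi (K.toCycles m n ≫ (K.cyclesIsoSc' m n (n + 1) (by simp; lia) (by simp)).hom) := by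
    rw [e]
    exact this
  have h3 : K.toCycles m n =
      (K.toCycles m n ≫ (K.cyclesIsoSc' m n (n + 1) (by simp; lia) (by simp)).hom) ≫
        (K.cyclesIsoSc' m n (n + 1) (by simp; lia) (by simp)).inv := by
    rw [Category.assoc, Iso.hom_inv_id, Category.comp_id]
  rw [h3]
  exact epi_comp _ _

/-- If `K` is exact in degree `n` and `Φ` is a functor preserving epimorphisms such that `Φ(K)` is
exact in degree `n - 1`, then `Φ` maps the inclusion of the `n`-cycles of `K` to a monomorphism. -/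
theorem mono_map_iCycles (Φ : 𝒜 ⥤ ℬ) [Φ.PreservesZeroMorphisms] [Φ.PreservesEpimorphisms]
    (K : CochainComplex 𝒜 ℤ) (l m n : ℤ) (hmn : m + 1 = n) (hK : K.ExactAt n)
    (hΦ : ((K.sc' l m n).map Φ).Exact) : Mono (Φ.map (K.iCycles n)) := by
  have hπ : Epi (K.toCycles m n) := epi_toCycles_of_exactAt K m n hmn hK
  have hΦπ : Epi (Φ.map (K.toCycles m n)) := inferInstance
  rw [Preadditive.mono_iff_cancel_zero]
  intro T z hz
  obtain ⟨T₁, c₁, hc₁, x, hx⟩ := surjective_up_to_refinements_of_epi (Φ.map (K.toCycles m n)) z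
  have hx0 : x ≫ ((K.sc' l m n).map Φ).g = 0 := by
    change x ≫ Φ.map (K.d m n) = 0
    rw [← K.toCycles_i m n, Φ.map_comp, ← Category.assoc, ← hx, Category.assoc, hz, comp_zero]
  obtain ⟨T₂, c₂, hc₂, y, hy⟩ := hΦ.exact_up_to_refinements x hx0
  let y' : T₂ ⟶ Φ.obj (K.X l) := y
  have hy' : c₂ ≫ x = y' ≫ Φ.map (K.d l m) := hy
  have hd : Φ.map (K.d l m) ≫ Φ.map (K.toCycles m n) = 0 := by
    rw [← Φ.map_comp, K.d_toCycles, Φ.map_zero]
  have : (c₂ ≫ c₁) ≫ z = 0 := by
    rw [Category.assoc, hx, ← Category.assoc, hy', Category.assoc, hd, comp_zero]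
  have : Epi (c₂ ≫ c₁) := epi_comp _ _
  exact (cancel_epi (c₂ ≫ c₁)).1 (by rw [‹(c₂ ≫ c₁) ≫ z = 0›, comp_zero])

end Groth.Agent.H45
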