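import Groth.Prelude.Def_KFlatSite
import Groth.Agent.H45.SheafTensor.FlatOps
import Groth.Agent.H45.KFlat.Acyclic
import Mathlib.CategoryTheory.Abelian.GrothendieckAxioms.Colim
import Mathlib.Algebra.Homology.ShortComplex.ExactFunctor

/-!
# The total tensor product complex preserves suitable short exact sequences
-/

open CategoryTheory Limits

namespace Groth.Agent.H45

universe u

section FunctorCategory

universe v₁ v₂ u₁ u₂

variable {K : Type u₁} [Category.{v₁} K] {𝒞 : Type u₂} [Category.{v₂} 𝒞] [Abelian 𝒞]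

/-- Exactness in a functor category can be checked pointwise. -/
lemma exact_of_evaluation (S : ShortComplex (K ⥤ 𝒞))
    (h : ∀ j, (S.map ((evaluation K 𝒞).obj j)).Exact) : S.Exact := by
  rw [ShortComplex.exact_iff_isZero_homology, Functor.isZero_iff]
  intro j
  have := h j
  rw [ShortComplex.exact_iff_isZero_homology] at this
  exact this.of_iso (S.mapHomologyIso ((evaluation K 𝒞).obj j)).symm

end FunctorCategory


section Tensor

variable {C : Type u} [SmallCategory C] {J : GrothendieckTopology C} (O : Sheaf J CommRingCat.{u})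

open HomologicalComplex

instance hasExactColimitsOfShape_discrete_mod (ι : Type) :
    HasExactColimitsOfShape (Discrete ι) (ModSite.Mod O) := by
  haveI : HasCoproducts.{0} (ModSite.Mod O) := fun I => inferInstance
  haveI : AB4OfSize.{0} (ModSite.Mod O) := AB4OfSize_shrink.{0, u} (ModSite.Mod O)
  exact AB4OfSize.ofShape ι

instance preservesZeroMorphisms_tensorCx_obj (F : CochainComplex (ModSite.Mod O) ℤ) :
    ((ModSite.tensorCx O).obj F).PreservesZeroMorphisms where
  map_zero K K' := by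
    ext n : 1
    apply mapBifunctor.hom_ext
    intro i₁ i₂ h
    refine (ι_mapBifunctorMap (𝟙 F) (0 : K ⟶ K') (ModSite.tensorBi O) (ComplexShape.up ℤ)
      i₁ i₂ n h).trans ?_
    simp only [HomologicalComplex.zero_f, Functor.map_zero, zero_comp, comp_zero]
    exact (comp_zero).symm

/-- `Tot(F ⊗ -)` sends a short exact sequence of complexes to a short exact sequence provided
each `F^p ⊗ -` keeps the sequence of terms in degree `q` short exact. -/
theorem shortExact_map_tensorCx (F : CochainComplex (ModSite.Mod O) ℤ)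
    (S : ShortComplex (CochainComplex (ModSite.Mod O) ℤ))
    (h : ∀ p q : ℤ, ((S.map (eval _ _ q)).map ((ModSite.tensorBi O).obj (F.X p))).ShortExact) :
    (S.map ((ModSite.tensorCx O).obj F)).ShortExact := by
  apply shortExact_of_degreewise_shortExact
  intro n
  let π := ComplexShape.π (ComplexShape.up ℤ) (ComplexShape.up ℤ) (ComplexShape.up ℤ)
  let ι := π ⁻¹' {n}
  let X : CochainComplex (ModSite.Mod O) ℤ → GradedObject (ℤ × ℤ) (ModSite.Mod O) := fun K =>
    ((((ModSite.tensorBi O).mapBifunctorHomologicalComplex _ _).obj F).obj K).toGradedObject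
  let G : CochainComplex (ModSite.Mod O) ℤ → (Discrete ι ⥤ ModSite.Mod O) := fun K =>
    Discrete.functor ((X K).mapObjFun π n)
  let Gm : ∀ {K K' : CochainComplex (ModSite.Mod O) ℤ} (φ : K ⟶ K'), G K ⟶ G K' := fun φ =>
    Discrete.natTrans (fun i => ((ModSite.tensorBi O).obj (F.X i.as.1.1)).map (φ.f i.as.1.2))
  let S' : ShortComplex (Discrete ι ⥤ ModSite.Mod O) := ShortComplex.mk (Gm S.f) (Gm S.g) (by
    ext ⟨i⟩ : 2
    change ((ModSite.tensorBi O).obj (F.X i.1.1)).map (S.f.f i.1.2) ≫
      ((ModSite.tensorBi O).obj (F.X i.1.1)).map (S.g.f i.1.2) = 0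
    rw [← Functor.map_comp, ← HomologicalComplex.comp_f, S.zero]
    simp)
  have hS' : S'.Exact := exact_of_evaluation S' (fun ⟨i⟩ => (h i.1.1 i.1.2).exact)
  let c : ∀ K : CochainComplex (ModSite.Mod O) ℤ, Cocone (G K) := fun K => (X K).cofanMapObj π n
  have hc : ∀ K, IsColimit (c K) := fun K => (X K).isColimitCofanMapObj π n
  let T := (ModSite.tensorCx O).obj F
  have hcomm : ∀ {K K' : CochainComplex (ModSite.Mod O) ℤ} (φ : K ⟶ K') (j : Discrete ι),
      (c K).ι.app j ≫ (T.map φ).f n = (Gm φ).app j ≫ (c K').ι.app j := by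
    rintro K K' φ ⟨⟨⟨i₁, i₂⟩, hi⟩⟩
    refine (ι_mapBifunctorMap (𝟙 F) φ (ModSite.tensorBi O) (ComplexShape.up ℤ)
      i₁ i₂ n hi).trans ?_
    have e1 : ((ModSite.tensorBi O).map (𝟙 (F.X i₁))).app (K.X i₂) = 𝟙 _ := by
      rw [(ModSite.tensorBi O).map_id]; rfl
    rw [HomologicalComplex.id_f, e1, Category.id_comp]
    rfl
  have hmono : Mono (Gm S.f) := by
    have : ∀ j, Mono ((Gm S.f).app j) := fun ⟨i⟩ => (h i.1.1 i.1.2).mono_f
    exact NatTrans.mono_of_mono_app _
  have hepi : ∀ j, Epi ((Gm S.g).app j) := fun ⟨i⟩ => (h i.1.1 i.1.2).epi_g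
  exact
    { exact := colim.exact_mapShortComplex hS' (hc S.X₁) (hc S.X₂) (hc S.X₃)
        ((T.map S.f).f n) ((T.map S.g).f n) (hcomm S.f) (hcomm S.g)
      mono_f := colim.map_mono' (Gm S.f) (hc S.X₁) (hc S.X₂) ((T.map S.f).f n) (hcomm S.f)
      epi_g := colim.map_epi' (Gm S.g) (c S.X₂) (hc S.X₃) ((T.map S.g).f n) (hcomm S.g) }

end Tensor

end Groth.Agent.H45
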