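import Groth.Agent.H45.KFlat.TotalExact
import Groth.Agent.H45.SheafTensor.FlatExact

/-!
# Two out of three for K-flat complexes in short exact sequences
-/

open CategoryTheory Limits

namespace Groth.Agent.H45

universe u

variable {C : Type u} [SmallCategory C] {J : GrothendieckTopology C} {O : Sheaf J CommRingCat.{u}}

open HomologicalComplex

/-- Two out of three for K-flatness, given that `Tot(F ⊗ -)` keeps the sequence short exact for
every acyclic `F`. -/
theorem isKFlat_two_of_three (S : ShortComplex (CochainComplex (ModSite.Mod O) ℤ))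
    (hS : ∀ F : CochainComplex (ModSite.Mod O) ℤ, (S.map ((ModSite.tensorCx O).obj F)).ShortExact) :
    (ModSite.IsKFlat S.X₁ → ModSite.IsKFlat S.X₂ → ModSite.IsKFlat S.X₃) ∧
    (ModSite.IsKFlat S.X₁ → ModSite.IsKFlat S.X₃ → ModSite.IsKFlat S.X₂) ∧
    (ModSite.IsKFlat S.X₂ → ModSite.IsKFlat S.X₃ → ModSite.IsKFlat S.X₁) := by
  refine ⟨fun h₁ h₂ F hF => ?_, fun h₁ h₃ F hF => ?_, fun h₂ h₃ F hF => ?_⟩
  · exact acyclic_X₃_of_shortExact _ (hS F) (h₁ F hF) (h₂ F hF)
  · exact acyclic_X₂_of_shortExact _ (hS F) (h₁ F hF) (h₃ F hF)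
  · exact acyclic_X₁_of_shortExact _ (hS F) (h₂ F hF) (h₃ F hF)

/-- A short exact sequence of complexes whose third complex has flat terms stays short exact after
applying `Tot(F ⊗ -)`. -/
theorem shortExact_map_tensorCx_of_flat (S : ShortComplex (CochainComplex (ModSite.Mod O) ℤ))
    (hS : S.ShortExact) (h3 : ∀ n : ℤ, ModSite.IsFlat (S.X₃.X n))
    (F : CochainComplex (ModSite.Mod O) ℤ) :
    (S.map ((ModSite.tensorCx O).obj F)).ShortExact := by
  apply shortExact_map_tensorCx
  intro p q
  have hSq : (S.map (eval _ _ q)).ShortExact := hS.map_of_exact _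
  exact
    { exact := (tensor_exact_and_epi (F.X p) _ hSq).1
      mono_f := mono_tensorBi_obj_map_of_isFlat _ hSq (h3 q) (F.X p)
      epi_g := (tensor_exact_and_epi (F.X p) _ hSq).2 }

end Groth.Agent.H45
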